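import Groth.Prelude.Def_W4c2ratsingkovacsGH
import Mathlib.RingTheory.Ideal.KrullsHeightTheorem
import Mathlib.RingTheory.GradedAlgebra.Radical
import Mathlib.RingTheory.GradedAlgebra.Homogeneous.Maps
import Mathlib.RingTheory.Regular.RegularSequence

/-! Homogeneous prime avoidance and geometric height. -/

set_option autoImplicit false

universe u v

open DirectSum W4c2ratsingkovacs HomogeneousLocalization

namespace Groth.Agent.GeomHt31

variable {R : Type u} {A : Type v} [CommRing R] [CommRing A] [Algebra R A]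
  (𝒜 : ℕ → Submodule R A) [GradedRing 𝒜] {f : A} {d : ℕ} (hf : f ∈ 𝒜 d)

/-- The ideal of numerators of an ideal of `A_(f)`. -/
def numIdeal (I : Ideal (Away 𝒜 f)) : Ideal A :=
  Ideal.span {a | ∃ (n : ℕ) (ha : a ∈ 𝒜 (n • d)), Away.mk 𝒜 hf n a ha ∈ I}

theorem mk_component_mem {I : Ideal (Away 𝒜 f)} {a : A} (ha : a ∈ numIdeal 𝒜 hf I) (hd : 0 < d) :
    ∀ (r : A) (n : ℕ), Away.mk 𝒜 hf n (decompose 𝒜 (r * a) (n • d) : A) (SetLike.coe_mem _) ∈ I := by
  induction ha using Submodule.span_induction with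
  | mem a ha =>
    intro r n
    obtain ⟨k, hak, hk⟩ := ha
    by_cases hkn : k ≤ n
    · obtain ⟨l, rfl⟩ := Nat.exists_eq_add_of_le hkn
      have h := I.mul_mem_left (Away.mk 𝒜 hf l (decompose 𝒜 r (l • d) : A) (SetLike.coe_mem _)) hk
      convert h using 1
      refine HomogeneousLocalization.val_injective _ ?_
      rw [val_mul, Away.val_mk, Away.val_mk, Away.val_mk, Localization.mk_mul]
      congr 1
      · rw [coe_decompose_mul_of_right_mem_of_le 𝒜 hak (by rw [add_smul]; exact Nat.le_add_right _ _)]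
        rw [show (k + l) • d - k • d = l • d by
          show (k + l) * d - k * d = l * d
          rw [add_mul, Nat.add_sub_cancel_left]]
      · exact Subtype.ext (by rw [Submonoid.coe_mul]; show f ^ (k + l) = f ^ l * f ^ k; rw [pow_add, mul_comm])
    · convert I.zero_mem
      refine HomogeneousLocalization.val_injective _ ?_
      rw [Away.val_mk, val_zero]
      have hlt : ¬ k • d ≤ n • d := by
        rw [smul_eq_mul, smul_eq_mul, not_le]
        exact Nat.mul_lt_mul_of_pos_right (by omega) hd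
      rw [coe_decompose_mul_of_right_mem 𝒜 _ hak, if_neg hlt, Localization.mk_zero]
  | zero =>
    intro r n
    convert I.zero_mem
    refine HomogeneousLocalization.val_injective _ ?_
    rw [Away.val_mk, val_zero]
    simp [Localization.mk_zero]
  | add x y _ _ hx hy =>
    intro r n
    convert I.add_mem (hx r n) (hy r n) using 1
    refine HomogeneousLocalization.val_injective _ ?_
    rw [val_add, Away.val_mk, Away.val_mk, Away.val_mk, Localization.add_mk_self]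
    simp [mul_add, decompose_add]
  | smul s x _ hx =>
    intro r n
    convert hx (r * s) n using 4
    rw [smul_eq_mul, mul_assoc]

include hf in
/-- `A_(f) → A_f` contracts extended ideals. -/
theorem mem_of_val_mem_map (hd : 0 < d) {I : Ideal (Away 𝒜 f)} {x : Away 𝒜 f}
    (hx : x.val ∈ I.map (algebraMap (Away 𝒜 f) (Localization.Away f))) : x ∈ I := by
  have hle : I.map (algebraMap (Away 𝒜 f) (Localization.Away f)) ≤
      (numIdeal 𝒜 hf I).map (algebraMap A (Localization.Away f)) := by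
    rw [Ideal.map_le_iff_le_comap]
    intro y hy
    obtain ⟨n, a, ha, rfl⟩ := Away.mk_surjective 𝒜 hf y
    rw [Ideal.mem_comap]
    show (Away.mk 𝒜 hf n a ha).val ∈ _
    rw [Away.val_mk, Localization.mk_eq_mk', IsLocalization.mk'_eq_mul_mk'_one]
    exact Ideal.mul_mem_right _ _ (Ideal.mem_map_of_mem _ (Ideal.subset_span ⟨n, ha, hy⟩))
  obtain ⟨n, a, ha, rfl⟩ := Away.mk_surjective 𝒜 hf x
  have h1 := hle hx
  rw [Away.val_mk, Localization.mk_eq_mk', IsLocalization.mk'_mem_map_algebraMap_iff] at h1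
  obtain ⟨_, ⟨m, rfl⟩, hm⟩ := h1
  have h2 := mk_component_mem 𝒜 hf hm hd 1 (m + n)
  convert h2 using 1
  refine HomogeneousLocalization.val_injective _ ?_
  rw [Away.val_mk, Away.val_mk]
  have hmem : f ^ m * a ∈ 𝒜 ((m + n) • d) := by
    rw [add_smul]; exact SetLike.mul_mem_graded (SetLike.pow_mem_graded m hf) ha
  simp only [one_mul, decompose_of_mem_same 𝒜 hmem]
  rw [Localization.mk_eq_mk_iff, Localization.r_iff_exists]
  exact ⟨1, by simp [pow_add, mul_comm, mul_left_comm, mul_assoc]⟩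

include hf in
theorem isNoetherianRing_away [IsNoetherianRing A] (hd : 0 < d) : IsNoetherianRing (Away 𝒜 f) := by
  refine isNoetherianRing_iff.2 (isNoetherian_iff'.2 ?_)
  have hmap : StrictMono fun I : Ideal (Away 𝒜 f) => I.map (algebraMap (Away 𝒜 f) (Localization.Away f)) := by
    refine Monotone.strictMono_of_injective (fun _ _ h => Ideal.map_mono h) fun I J h => ?_
    have key : ∀ I J : Ideal (Away 𝒜 f), I.map (algebraMap (Away 𝒜 f) (Localization.Away f)) ≤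
        J.map (algebraMap (Away 𝒜 f) (Localization.Away f)) → I ≤ J := fun I J h x hx =>
      mem_of_val_mem_map 𝒜 hf hd (h (Ideal.mem_map_of_mem _ hx))
    exact le_antisymm (key I J h.le) (key J I h.ge)
  have : IsNoetherianRing (Localization.Away f) :=
    IsLocalization.isNoetherianRing (Submonoid.powers f) _ inferInstance
  have := isNoetherian_iff'.1 this
  exact hmap.wellFoundedGT

/-- `z ^ d / f ^ i` for `z` of degree `i`. -/
def frac {z : A} {i : ℕ} (hz : z ∈ 𝒜 i) : Away 𝒜 f :=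
  Away.mk 𝒜 hf i (z ^ d) (by rw [smul_eq_mul, mul_comm]; exact SetLike.pow_mem_graded d hz)

theorem val_frac {z : A} {i : ℕ} (hz : z ∈ 𝒜 i) :
    (frac 𝒜 hf hz).val * algebraMap A (Localization.Away f) (f ^ i) =
      algebraMap A (Localization.Away f) (z ^ d) := by
  rw [frac, Away.val_mk, Localization.mk_eq_mk']
  exact IsLocalization.mk'_spec (Localization.Away f) (z ^ d) (⟨f ^ i, ⟨i, rfl⟩⟩ : Submonoid.powers f)

theorem mem_locIdeal_iff (J : Ideal A) (x : Away 𝒜 f) :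
    x ∈ locIdeal 𝒜 J f ↔ x.val ∈ J.map (algebraMap A (Localization.Away f)) := Iff.rfl

theorem locIdeal_mono {I J : Ideal A} (h : I ≤ J) : locIdeal 𝒜 I f ≤ locIdeal 𝒜 J f :=
  Ideal.comap_mono (Ideal.map_mono h)

theorem locIdeal_ne_top {J : Ideal A} (h : f ∉ J.radical) : locIdeal 𝒜 J f ≠ ⊤ := fun e => by
  have h1 := (Ideal.eq_top_iff_one _).1 e
  rw [mem_locIdeal_iff, val_one, ← map_one (algebraMap A (Localization.Away f)),
    IsLocalization.algebraMap_mem_map_algebraMap_iff (Submonoid.powers f)] at h1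
  obtain ⟨_, ⟨m, rfl⟩, hm⟩ := h1
  exact h ⟨m, by simpa using hm⟩

theorem frac_mem_locIdeal {J : Ideal A} (hd : 0 < d) {z : A} {i : ℕ} (hz : z ∈ 𝒜 i) (hzJ : z ∈ J) :
    frac 𝒜 hf hz ∈ locIdeal 𝒜 J f := by
  rw [mem_locIdeal_iff, frac, Away.val_mk, Localization.mk_eq_mk', IsLocalization.mk'_eq_mul_mk'_one]
  exact Ideal.mul_mem_right _ _ (Ideal.mem_map_of_mem _ (Ideal.pow_mem_of_mem _ hzJ d hd))

include hf in
/-- Upper bound. -/
theorem height_locIdeal_le [IsNoetherianRing A] (hd : 0 < d) (zs : List A)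
    (hzs : ∀ z ∈ zs, ∃ i, z ∈ 𝒜 i) (hne : f ∉ (Ideal.ofList zs).radical) :
    (locIdeal 𝒜 (Ideal.ofList zs) f).height ≤ zs.length := by
  classical
  have := isNoetherianRing_away 𝒜 hf hd
  choose deg hdeg using hzs
  set L := locIdeal 𝒜 (Ideal.ofList zs) f
  set es := zs.attach.map fun z => frac 𝒜 hf (hdeg z.1 z.2) with hes
  have hle : Ideal.ofList es ≤ L := Ideal.span_le.2 fun e he => by
    obtain ⟨⟨z, hz⟩, -, rfl⟩ := List.mem_map.1 (show e ∈ es from he)
    exact frac_mem_locIdeal 𝒜 hf hd _ (Ideal.subset_span hz)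
  have hrad : L ≤ (Ideal.ofList es).radical := by
    intro x hx
    rw [mem_locIdeal_iff] at hx
    have h1 : (Ideal.ofList zs).map (algebraMap A (Localization.Away f)) ≤
        ((Ideal.ofList es).map (algebraMap (Away 𝒜 f) (Localization.Away f))).radical := by
      rw [Ideal.map_le_iff_le_comap]
      refine Ideal.span_le.2 fun z hz => ⟨d, ?_⟩
      rw [← map_pow, ← val_frac 𝒜 hf (hdeg z hz)]
      have hmem : frac 𝒜 hf (hdeg z hz) ∈ Ideal.ofList es :=
        Ideal.subset_span (List.mem_map.2 ⟨⟨z, hz⟩, List.mem_attach _ _, rfl⟩)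
      exact Ideal.mul_mem_right _ _ (show (frac 𝒜 hf (hdeg z hz)).val ∈ _ from
        Ideal.mem_map_of_mem (algebraMap (Away 𝒜 f) (Localization.Away f)) hmem)
    obtain ⟨N, hN⟩ := h1 hx
    rw [← val_pow] at hN
    exact ⟨N, mem_of_val_mem_map 𝒜 hf hd hN⟩
  have heq : (Ideal.ofList es).radical = L.radical :=
    le_antisymm (Ideal.radical_mono hle) (Ideal.radical_le_radical_iff.2 hrad)
  rw [L.height_eq_inf_minimalPrimes, ← Ideal.radical_minimalPrimes, ← heq, Ideal.radical_minimalPrimes,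
    ← (Ideal.ofList es).height_eq_inf_minimalPrimes]
  refine (Ideal.height_le_spanFinrank _ fun e => locIdeal_ne_top 𝒜 hne (top_le_iff.1 (e ▸ hle))).trans
    ((Submodule.spanFinrank_span_le_encard _).trans ?_)
  rw [show {r | r ∈ es} = (es.toFinset : Set (Away 𝒜 f)) from Set.ext fun x => by simp,
    Set.encard_coe_eq_coe_finsetCard]
  exact_mod_cast (List.toFinset_card_le _).trans_eq (by rw [hes, List.length_map, List.length_attach])

include hf in
/-- The key step: a minimal prime of `Z_(f)` either contains `J_(f)` or avoids `z^d/f^i`. -/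
theorem le_or_frac_notMem {Z J : Ideal A} {z : A} {i : ℕ} (hd : 0 < d) (hz : z ∈ 𝒜 i)
    (hav : ∀ q ∈ Z.minimalPrimes, ¬ J ≤ q → ¬ (HomogeneousIdeal.irrelevant 𝒜).toIdeal ≤ q → z ∉ q)
    {𝔭 : Ideal (Away 𝒜 f)} (h𝔭 : 𝔭 ∈ (locIdeal 𝒜 Z f).minimalPrimes) :
    locIdeal 𝒜 J f ≤ 𝔭 ∨ frac 𝒜 hf hz ∉ 𝔭 := by
  set L := Localization.Away f
  obtain ⟨P, hP, hZP, rfl⟩ := Ideal.exists_comap_eq_of_mem_minimalPrimes _ 𝔭 h𝔭
  obtain ⟨P₁, hP₁, hP₁P⟩ := Ideal.exists_minimalPrimes_le hZP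
  have := hP₁.1.1
  have hcomap : P₁.comap (algebraMap (Away 𝒜 f) L) = P.comap (algebraMap (Away 𝒜 f) L) :=
    le_antisymm (Ideal.comap_mono hP₁P)
      (h𝔭.2 ⟨inferInstance, Ideal.comap_mono hP₁.1.2⟩ (Ideal.comap_mono hP₁P))
  set q := P₁.comap (algebraMap A L)
  have hfq : f ∉ q := fun h => hP₁.1.1.ne_top
    (Ideal.eq_top_of_isUnit_mem _ h (IsLocalization.Away.algebraMap_isUnit f))
  have hqZ : q ∈ Z.minimalPrimes := by
    refine ⟨⟨inferInstance, Ideal.map_le_iff_le_comap.1 hP₁.1.2⟩, fun Q hQ hQq => ?_⟩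
    have := hQ.1
    have hdisj : Disjoint (Submonoid.powers f : Set A) Q := Set.disjoint_left.2 fun x hx hxQ => by
      obtain ⟨m, rfl⟩ := hx
      exact hfq (hQq (hQ.1.mem_of_pow_mem m hxQ))
    have := IsLocalization.isPrime_of_isPrime_disjoint (Submonoid.powers f) L Q inferInstance hdisj
    have h1 : Q.map (algebraMap A L) ≤ P₁ := Ideal.map_le_iff_le_comap.2 hQq
    have h2 := hP₁.2 ⟨this, Ideal.map_mono hQ.2⟩ h1
    exact (Ideal.comap_mono h2).trans_eq
      (IsLocalization.comap_map_of_isPrime_disjoint (Submonoid.powers f) L inferInstance hdisj)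
  rw [← hcomap]
  by_cases hJq : J ≤ q
  · exact Or.inl (Ideal.comap_mono (Ideal.map_le_iff_le_comap.2 hJq))
  refine Or.inr fun hmem => hav q hqZ hJq (fun h => hfq (h (HomogeneousIdeal.mem_irrelevant_of_mem 𝒜 hd hf))) ?_
  refine Ideal.IsPrime.mem_of_pow_mem inferInstance d ?_
  show algebraMap A L (z ^ d) ∈ P₁
  rw [← val_frac 𝒜 hf hz]
  exact Ideal.mul_mem_right _ _ hmem

/-- Homogeneous prime avoidance. -/
theorem exists_avoid {J : Ideal A} (hJ : J.IsHomogeneous 𝒜) (s : Finset (Ideal A))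
    (hs : ∀ q ∈ s, q.IsPrime ∧ ¬ J ≤ q ∧ ¬ (HomogeneousIdeal.irrelevant 𝒜).toIdeal ≤ q) :
    ∃ (n : ℕ) (z : A), 0 < n ∧ z ∈ 𝒜 n ∧ z ∈ J ∧ ∀ q ∈ s, z ∉ q := by
  classical
  -- it is enough to avoid the homogeneous cores
  suffices ∀ t : Finset (Ideal A),
      (∀ q ∈ t, q.IsPrime ∧ q.IsHomogeneous 𝒜 ∧ ¬ J ≤ q ∧ ¬ (HomogeneousIdeal.irrelevant 𝒜).toIdeal ≤ q) →
      ∃ (n : ℕ) (z : A), 0 < n ∧ z ∈ 𝒜 n ∧ z ∈ J ∧ ∀ q ∈ t, z ∉ q by
    obtain ⟨n, z, hn, hz, hzJ, hzq⟩ := this (s.image fun q => (q.homogeneousCore 𝒜).toIdeal) (by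
      intro q hq
      obtain ⟨p, hp, rfl⟩ := Finset.mem_image.1 hq
      obtain ⟨hp1, hp2, hp3⟩ := hs p hp
      exact ⟨hp1.homogeneousCore, (p.homogeneousCore 𝒜).isHomogeneous,
        fun h => hp2 (h.trans (Ideal.toIdeal_homogeneousCore_le 𝒜 p)),
        fun h => hp3 (h.trans (Ideal.toIdeal_homogeneousCore_le 𝒜 p))⟩)
    exact ⟨n, z, hn, hz, hzJ, fun q hq h => hzq _ (Finset.mem_image_of_mem _ hq)
      (Ideal.mem_homogeneousCore_of_homogeneous_of_mem ⟨n, hz⟩ h)⟩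
  intro t
  induction t using Finset.strongInduction with
  | H t ih =>
    intro ht
    by_cases hne : t = ∅
    · exact ⟨1, 0, one_pos, zero_mem _, zero_mem _, by simp [hne]⟩
    obtain ⟨q, hq, hqmin⟩ : ∃ q ∈ t, ∀ q' ∈ t, q' ≤ q → q' = q := by
      obtain ⟨q, hq⟩ := t.exists_minimal (Finset.nonempty_iff_ne_empty.2 hne)
      exact ⟨q, hq.1, fun q' hq' h => le_antisymm h (hq.2 hq' h)⟩
    obtain ⟨n, z, hn, hz, hzJ, hzq⟩ := ih (t.erase q) (Finset.erase_ssubset hq)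
      fun q' hq' => ht q' (Finset.mem_of_mem_erase hq')
    by_cases hzin : z ∈ q
    swap
    · exact ⟨n, z, hn, hz, hzJ, fun q' hq' => if e : q' = q then e ▸ hzin else hzq q' (Finset.mem_erase.2 ⟨e, hq'⟩)⟩
    obtain ⟨hqp, hqh, hqJ, hqirr⟩ := ht q hq
    have hhom : ∀ I : Ideal A, I.IsHomogeneous 𝒜 → ¬ I ≤ q → ∃ i a, a ∈ 𝒜 i ∧ a ∈ I ∧ a ∉ q := by
      intro I hI hIq
      obtain ⟨a, ha, haq⟩ := Set.not_subset.1 hIq
      obtain ⟨i, hi⟩ : ∃ i, (decompose 𝒜 a i : A) ∉ q := by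
        by_contra hcon
        exact haq ((hqh.mem_iff).2 fun i => by_contra fun h => hcon ⟨i, h⟩)
      exact ⟨i, _, SetLike.coe_mem _, hI i ha, hi⟩
    obtain ⟨i, a, ha, haJ, haq⟩ := hhom J hJ hqJ
    obtain ⟨e, b, hb, hbirr, hbq⟩ := hhom _ (HomogeneousIdeal.irrelevant 𝒜).isHomogeneous hqirr
    have he : 0 < e := by
      by_contra h0
      obtain rfl : e = 0 := by omega
      refine hbq ?_
      have hb0 := (HomogeneousIdeal.mem_irrelevant_iff 𝒜 b).1 hbirr
      rw [GradedRing.proj_apply, decompose_of_mem_same 𝒜 hb] at hb0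
      rw [hb0]; exact zero_mem _
    have hc : ∀ q' ∈ t.erase q, ∃ i c, c ∈ 𝒜 i ∧ c ∈ q' ∧ c ∉ q := fun q' hq' =>
      hhom q' (ht q' (Finset.mem_of_mem_erase hq')).2.1
        fun h => Finset.ne_of_mem_erase hq' (hqmin q' (Finset.mem_of_mem_erase hq') h)
    choose! dc c hdc hcq' hcq using hc
    set y := a * b * ∏ q' ∈ t.erase q, c q' with hy
    set m := i + e + ∑ q' ∈ t.erase q, dc q' with hm
    have hym : y ∈ 𝒜 m := SetLike.mul_mem_graded (SetLike.mul_mem_graded ha hb)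
      (SetLike.prod_mem_graded 𝒜 dc c (fun q' hq' => hdc q' hq'))
    have hyq : y ∉ q := fun h => by
      rcases hqp.mem_or_mem h with h | h
      · exact (hqp.mem_or_mem h).elim haq hbq
      · obtain ⟨q', hq', h⟩ := (Ideal.IsPrime.prod_mem_iff (p := q)).1 h
        exact hcq q' hq' h
    refine ⟨n * m, z ^ m + y ^ n, Nat.mul_pos hn (by omega), add_mem ?_ ?_, add_mem ?_ ?_, fun q' hq' => ?_⟩
    · rw [mul_comm]; exact SetLike.pow_mem_graded m hz
    · exact SetLike.pow_mem_graded n hym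
    · exact Ideal.pow_mem_of_mem _ hzJ m (by omega)
    · exact Ideal.pow_mem_of_mem _ (Ideal.mul_mem_right _ _ (Ideal.mul_mem_right _ _ haJ)) n hn
    · by_cases e' : q' = q
      · subst e'
        intro h
        exact hyq (hqp.mem_of_pow_mem n (by simpa using sub_mem h (Ideal.pow_mem_of_mem _ hzin m (by omega))))
      · have hq'' := Finset.mem_erase.2 ⟨e', hq'⟩
        intro h
        have hy' : y ∈ q' := Ideal.mul_mem_left _ _ (Ideal.prod_mem q' hq'' (hcq' q' hq''))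
        exact hzq q' hq'' ((ht q' hq').1.mem_of_pow_mem m
          (by simpa using sub_mem h (Ideal.pow_mem_of_mem _ hy' n hn)))

/-- Existence of the sequence. -/
theorem exists_seq [IsNoetherianRing A] {J : Ideal A} (hJ : J.IsHomogeneous 𝒜) {h : ℕ}
    (hJh : HasUniformGeomHeight 𝒜 J h) (P : Finset (Ideal A))
    (hP : ∀ q ∈ P, q.IsPrime ∧ ¬ J ≤ q ∧ ¬ (HomogeneousIdeal.irrelevant 𝒜).toIdeal ≤ q) :
    ∀ j ≤ h, ∃ zs : List A, zs.length = j ∧
      (∀ z ∈ zs, (∃ n : ℕ, 0 < n ∧ z ∈ 𝒜 n) ∧ z ∈ J ∧ ∀ q ∈ P, z ∉ q) ∧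
      ∀ (f : A) (n : ℕ), 0 < n → f ∈ 𝒜 n → f ∉ J.radical →
        ∀ i ≤ j, ∀ 𝔭 ∈ (locIdeal 𝒜 (Ideal.ofList (zs.take i)) f).minimalPrimes, (i : ℕ∞) ≤ 𝔭.height := by
  classical
  intro j
  induction j with
  | zero =>
    exact fun _ => ⟨[], rfl, by simp, fun f n _ _ _ i hi 𝔭 _ => by
      obtain rfl : i = 0 := Nat.le_zero.1 hi
      exact_mod_cast zero_le⟩
  | succ j ih =>
    intro hj
    obtain ⟨zs, hlen, hzs, hht⟩ := ih (Nat.le_of_succ_le hj)
    set Z := Ideal.ofList zs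
    have hfin := Z.finite_minimalPrimes_of_isNoetherianRing
    obtain ⟨e, z, he, hz, hzJ, hzav⟩ := exists_avoid 𝒜 hJ
      (P ∪ hfin.toFinset.filter fun q => ¬ J ≤ q ∧ ¬ (HomogeneousIdeal.irrelevant 𝒜).toIdeal ≤ q) (by
        intro q hq
        rcases Finset.mem_union.1 hq with hq | hq
        · exact hP q hq
        · obtain ⟨h1, h2⟩ := Finset.mem_filter.1 hq
          exact ⟨(hfin.mem_toFinset.1 h1).1.1, h2⟩)
    refine ⟨zs ++ [z], by simp [hlen], fun x hx => ?_, fun f n hn hf hfJ i hi 𝔭 h𝔭 => ?_⟩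
    · rcases List.mem_append.1 hx with hx | hx
      · exact hzs x hx
      · rw [List.mem_singleton.1 hx]
        exact ⟨⟨e, he, hz⟩, hzJ, fun q hq => hzav q (Finset.mem_union_left _ hq)⟩
    rcases Nat.le_or_eq_of_le_succ hi with hi | rfl
    · rw [List.take_append_of_le_length (hlen ▸ hi)] at h𝔭
      exact hht f n hn hf hfJ i hi 𝔭 h𝔭
    rw [List.take_of_length_le (by simp [hlen])] at h𝔭
    have := h𝔭.1.1
    have hsub : locIdeal 𝒜 Z f ≤ 𝔭 := (locIdeal_mono 𝒜 (by rw [Ideal.ofList_append]; exact le_sup_left)).trans h𝔭.1.2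
    obtain ⟨𝔮, h𝔮, h𝔮𝔭⟩ := Ideal.exists_minimalPrimes_le hsub
    have := h𝔮.1.1
    have h0 : (j : ℕ∞) ≤ 𝔮.height := hht f n hn hf hfJ j le_rfl 𝔮 (by
      rwa [List.take_of_length_le hlen.le])
    rcases le_or_frac_notMem 𝒜 hf (J := J) hn hz (fun q hq h1 h2 =>
        hzav q (Finset.mem_union_right _ (Finset.mem_filter.2 ⟨hfin.mem_toFinset.2 hq, h1, h2⟩))) h𝔮 with h1 | h1
    · calc ((j + 1 : ℕ) : ℕ∞) ≤ h := by exact_mod_cast hj
        _ = geomHeight 𝒜 J f := (hJh f n hn hf hfJ).symm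
        _ ≤ 𝔮.height := Ideal.height_mono h1
        _ ≤ 𝔭.height := Ideal.height_mono h𝔮𝔭
    · have hlt : 𝔮 < 𝔭 := lt_of_le_of_ne h𝔮𝔭 fun e' => h1 (e' ▸ h𝔭.1.2 (frac_mem_locIdeal 𝒜 hf hn hz
        (by rw [Ideal.ofList_append, Ideal.ofList_singleton]
            exact Ideal.mem_sup_right (Ideal.mem_span_singleton_self z))))
      have := isNoetherianRing_away 𝒜 hf hn
      push_cast
      exact (add_le_add_left h0 1).trans (Order.add_one_le_of_lt (Ideal.height_strict_mono_of_isPrime hlt))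

theorem geomHeight_take [IsNoetherianRing A] {J : Ideal A} {h : ℕ} {zs : List A} (hlen : zs.length = h)
    (hzs : ∀ z ∈ zs, (∃ n : ℕ, 0 < n ∧ z ∈ 𝒜 n) ∧ z ∈ J)
    {f : A} {n : ℕ} (hn : 0 < n) (hf : f ∈ 𝒜 n) (hfJ : f ∉ J.radical) {j : ℕ} (hj : j ≤ h)
    (hlb : ∀ 𝔭 ∈ (locIdeal 𝒜 (Ideal.ofList (zs.take j)) f).minimalPrimes, (j : ℕ∞) ≤ 𝔭.height) :
    geomHeight 𝒜 (Ideal.ofList (zs.take j)) f = j := by
  refine le_antisymm ?_ ?_
  · have hle : Ideal.ofList (zs.take j) ≤ J := Ideal.span_le.2 fun z hz => (hzs z (List.mem_of_mem_take hz)).2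
    refine (height_locIdeal_le 𝒜 hf hn (zs.take j) (fun z hz => ?_) fun h' => hfJ (Ideal.radical_mono hle h')).trans ?_
    · obtain ⟨⟨m, -, hm⟩, -⟩ := hzs z (List.mem_of_mem_take hz)
      exact ⟨m, hm⟩
    · rw [List.length_take]
      exact_mod_cast min_le_left _ _
  · rw [geomHeight, Ideal.height_eq_inf_minimalPrimes]
    exact le_iInf₂ hlb

end Groth.Agent.GeomHt31
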